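import Cfsg.Agent.H388.SR.Nil

/-!
# TEAM SR, task SR-G1c (helper388, S4971): pieces for the eigenvalues `±1`, characteristic not 2

`g1c` : `g` an isometry of the `ε`-symmetric form `B`, `X - σ` (`σ = ±1`) a divisor of the minimal polynomial: there is a cyclic
piece with `ε = (-1)^(k+1)` or a pair piece with `ε = (-1)^k`.
-/

set_option autoImplicit false
set_option linter.unusedSectionVars false

namespace Cfsg.Agent.H388.SR

open Polynomial Module Cfsg.Agent.H721.SR

variable {F V : Type*} [Field F] [AddCommGroup V] [Module F V] {g : V ≃ₗ[F] V} {σ : F}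

theorem aeval_X_sub (p : ℕ) : aeval (g : V →ₗ[F] V) ((X - C σ : F[X]) ^ p) = NN g σ ^ p := by
  rw [map_pow]
  congr 1
  rw [map_sub, aeval_X, aeval_C]
  rfl

/-- annihilators -/
theorem ann_of {f : F[X]} (hf : Irreducible f) {k : ℕ} (hk : 0 < k) {v : V} (h0 : aeval (g : V →ₗ[F] V) (f ^ k) v = 0)
    (h1 : aeval (g : V →ₗ[F] V) (f ^ (k - 1)) v ≠ 0) : Ann g v (f ^ k) := by
  intro p
  constructor
  · intro hp
    by_contra hnd
    have hp0 : p ≠ 0 := by
      rintro rfl
      exact hnd (dvd_zero _)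
    have hfin : FiniteMultiplicity f p := FiniteMultiplicity.of_not_isUnit hf.not_isUnit hp0
    obtain ⟨q, hq, hfq⟩ := hfin.exists_eq_pow_mul_and_not_dvd
    set j := multiplicity f p with hj
    have hjk : j < k := by
      by_contra hle
      push Not at hle
      exact hnd ((pow_dvd_pow f hle).trans ⟨q, hq⟩)
    have hco : IsCoprime q (f ^ k) := (IsCoprime.pow_left ((hf.coprime_iff_not_dvd).2 hfq)).symm
    obtain ⟨a, b, hab⟩ := hco
    have h2 : f ^ j = a * p + b * f ^ j * f ^ k := by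
      calc f ^ j = f ^ j * (a * q + b * f ^ k) := by rw [hab, mul_one]
        _ = a * (f ^ j * q) + b * f ^ j * f ^ k := by ring
        _ = _ := by rw [← hq]
    have h3 : aeval (g : V →ₗ[F] V) (f ^ j) v = 0 := by
      rw [h2, map_add, map_mul, map_mul, LinearMap.add_apply, Module.End.mul_apply, Module.End.mul_apply, hp, h0, map_zero,
        map_zero, add_zero]
    apply h1
    have h4 : f ^ (k - 1) = f ^ (k - 1 - j) * f ^ j := by
      rw [← pow_add]
      congr 1
      omega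
    rw [h4, map_mul, Module.End.mul_apply, h3, map_zero]
  · rintro ⟨q, rfl⟩
    rw [mul_comm, map_mul, Module.End.mul_apply, h0, map_zero]

section form

variable {B : V →ₗ[F] V →ₗ[F] F} {ε : F}

theorem B_ginv (hS : St B ε g) (x y : V) : B (g x) y = B x (g⁻¹ y) := by
  rw [← hS.isom x (g⁻¹ y), g_ginv]

theorem B_g (hS : St B ε g) (x y : V) : B x (g y) = B (g⁻¹ x) y := by
  rw [← hS.isom (g⁻¹ x) y, g_ginv]

theorem B_zpow (hS : St B ε g) (i : ℤ) (x y : V) : B x ((g ^ i) y) = B ((g ^ (-i)) x) y := by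
  have h : ∀ i : ℤ, ∀ x y : V, B ((g ^ i) x) ((g ^ i) y) = B x y := by
    intro i
    induction i using Int.induction_on with
    | zero => intro x y; rfl
    | succ i ih =>
      intro x y
      rw [zpow_add_one, LinearEquiv.mul_apply, LinearEquiv.mul_apply, ih, hS.isom]
    | pred i ih =>
      intro x y
      rw [zpow_sub_one, LinearEquiv.mul_apply, LinearEquiv.mul_apply, ih, ← hS.isom, g_ginv, g_ginv]
  rw [← h i ((g ^ (-i)) x) y, ← LinearEquiv.mul_apply, ← zpow_add, add_neg_cancel, zpow_zero]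
  rfl

theorem adj (hS : St B ε g) (x y : V) : B (NN g σ x) y = B x (NN g⁻¹ σ y) := by
  rw [NN_apply, NN_apply, map_sub, map_smul, map_sub, map_smul, LinearMap.sub_apply, LinearMap.smul_apply, B_ginv hS]

theorem adj' (hS : St B ε g) (x y : V) : B x (NN g σ y) = B (NN g⁻¹ σ x) y := by
  rw [NN_apply, NN_apply, map_sub, map_smul, map_sub, map_smul, LinearMap.sub_apply, LinearMap.smul_apply, B_g hS]

theorem adj_pow (hS : St B ε g) (i : ℕ) (x y : V) : B ((NN g σ ^ i) x) y = B x ((NN g⁻¹ σ ^ i) y) := by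
  induction i generalizing x y with
  | zero => rfl
  | succ i ih =>
    rw [pow_succ', pow_succ]
    show B (NN g σ ((NN g σ ^ i) x)) y = B x ((NN g⁻¹ σ ^ i) (NN g⁻¹ σ y))
    rw [adj hS, ih]

theorem adj_pow' (hS : St B ε g) (i : ℕ) (x y : V) : B x ((NN g σ ^ i) y) = B ((NN g⁻¹ σ ^ i) x) y := by
  induction i generalizing x y with
  | zero => rfl
  | succ i ih =>
    rw [pow_succ', pow_succ]
    show B x (NN g σ ((NN g σ ^ i) y)) = B ((NN g⁻¹ σ ^ i) (NN g⁻¹ σ x)) y
    rw [adj' hS, ih]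

theorem NN_pow_add (i j : ℕ) (x : V) : (NN g σ ^ i) ((NN g σ ^ j) x) = (NN g σ ^ (i + j)) x := by
  rw [pow_add]; rfl

theorem NN_pow_zero_of_le {i j : ℕ} (h : i ≤ j) {x : V} (hx : (NN g σ ^ i) x = 0) : (NN g σ ^ j) x = 0 := by
  obtain ⟨m, rfl⟩ := Nat.exists_eq_add_of_le h
  rw [add_comm, ← NN_pow_add, hx, map_zero]

theorem star_mem_cyc {v x : V} (hx : x ∈ cyc g v) : NN g⁻¹ σ x ∈ cyc g v :=
  sub_mem (ginv_cyc hx) (Submodule.smul_mem _ _ hx)

theorem star_pow_mem_cyc {v x : V} (hx : x ∈ cyc g v) (i : ℕ) : (NN g⁻¹ σ ^ i) x ∈ cyc g v := by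
  induction i with
  | zero => exact hx
  | succ i ih => rw [pow_succ']; exact star_mem_cyc ih

/-- `x = a v + y`, `y ∈ cyc g (N v)` -/
theorem decomp [FiniteDimensional F V] {v x : V} (hx : x ∈ cyc g v) :
    ∃ (a : F) (y : V), y ∈ cyc g (NN g σ v) ∧ x = a • v + y := by
  rw [cyc_eq (σ := σ)] at hx
  induction hx using Submodule.span_induction with
  | mem y hy =>
    obtain ⟨j, rfl⟩ := hy
    rcases j with _ | j
    · exact ⟨1, 0, zero_mem _, by simp⟩
    · refine ⟨0, (NN g σ ^ (j + 1)) v, ?_, by simp⟩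
      rw [pow_succ]
      exact NN_pow_mem_cyc (mem_cyc _) j
  | zero => exact ⟨0, 0, zero_mem _, by simp⟩
  | add x y _ _ hx hy =>
    obtain ⟨a, x', hx', rfl⟩ := hx
    obtain ⟨b, y', hy', rfl⟩ := hy
    exact ⟨a + b, x' + y', add_mem hx' hy', by module⟩
  | smul c x _ hx =>
    obtain ⟨a, x', hx', rfl⟩ := hx
    exact ⟨c * a, c • x', Submodule.smul_mem _ _ hx', by module⟩

theorem NN_pow_cyc_zero {k : ℕ} {v : V} (hv : (NN g σ ^ k) v = 0) {x : V} (hx : x ∈ cyc g v) : (NN g σ ^ k) x = 0 := by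
  have h : ∀ (i : ℕ), (NN g σ ^ i) x ∈ cyc g ((NN g σ ^ i) v) := by
    intro i
    induction i with
    | zero => exact hx
    | succ i ih =>
      rw [pow_succ']
      exact NN_cyc ih
  have := h k
  rw [hv, cyc_zero, Submodule.mem_bot] at this
  exact this

theorem socle_one [FiniteDimensional F V] (k : ℕ) : ∀ {v x : V}, (NN g σ ^ (k + 1)) v = 0 → x ∈ cyc g v → x ≠ 0 →
    ∃ (t : ℕ) (a : F), a ≠ 0 ∧ (NN g σ ^ t) x = a • (NN g σ ^ k) v := by
  induction k with
  | zero =>
    intro v x hv hx hx0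
    obtain ⟨a, y, hy, rfl⟩ := decomp (σ := σ) hx
    rw [zero_add, pow_one] at hv
    rw [hv, cyc_zero, Submodule.mem_bot] at hy
    subst hy
    refine ⟨0, a, ?_, by simp⟩
    rintro rfl
    simp at hx0
  | succ k ih =>
    intro v x hv hx hx0
    obtain ⟨a, y, hy, rfl⟩ := decomp (σ := σ) hx
    by_cases ha : a = 0
    · subst ha
      rw [zero_smul, zero_add] at hx0 ⊢
      obtain ⟨t, a, ha, h⟩ := ih (v := NN g σ v) (x := y) (by rw [pow_succ] at hv; exact hv) hy hx0
      refine ⟨t, a, ha, ?_⟩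
      rw [h, pow_succ (NN g σ) k]
      rfl
    · refine ⟨k + 1, a, ha, ?_⟩
      rw [map_add, map_smul, NN_pow_cyc_zero (v := NN g σ v) (by rw [pow_succ] at hv; exact hv) hy, add_zero]

theorem socle_two [FiniteDimensional F V] (k : ℕ) : ∀ {u v x : V}, (NN g σ ^ (k + 1)) u = 0 → (NN g σ ^ (k + 1)) v = 0 →
    x ∈ cyc g u ⊔ cyc g v → x ≠ 0 →
    ∃ (t : ℕ) (a b : F), (a ≠ 0 ∨ b ≠ 0) ∧ (NN g σ ^ t) x = a • (NN g σ ^ k) u + b • (NN g σ ^ k) v := by
  induction k with
  | zero =>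
    intro u v x hu hv hx hx0
    obtain ⟨x1, hx1, x2, hx2, rfl⟩ := Submodule.mem_sup.1 hx
    obtain ⟨a, y, hy, rfl⟩ := decomp (σ := σ) hx1
    obtain ⟨b, z, hz, rfl⟩ := decomp (σ := σ) hx2
    rw [zero_add, pow_one] at hu hv
    rw [hu, cyc_zero, Submodule.mem_bot] at hy
    rw [hv, cyc_zero, Submodule.mem_bot] at hz
    subst hy hz
    refine ⟨0, a, b, ?_, by simp⟩
    by_contra hcon
    push Not at hcon
    rw [hcon.1, hcon.2] at hx0
    simp at hx0
  | succ k ih =>
    intro u v x hu hv hx hx0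
    obtain ⟨x1, hx1, x2, hx2, rfl⟩ := Submodule.mem_sup.1 hx
    obtain ⟨a, y, hy, rfl⟩ := decomp (σ := σ) hx1
    obtain ⟨b, z, hz, rfl⟩ := decomp (σ := σ) hx2
    by_cases hab : a ≠ 0 ∨ b ≠ 0
    · refine ⟨k + 1, a, b, hab, ?_⟩
      rw [map_add, map_add, map_add, map_smul, map_smul,
        NN_pow_cyc_zero (v := NN g σ u) (by rw [pow_succ] at hu; exact hu) hy,
        NN_pow_cyc_zero (v := NN g σ v) (by rw [pow_succ] at hv; exact hv) hz, add_zero, add_zero]
    · push Not at hab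
      obtain ⟨rfl, rfl⟩ := hab
      simp only [zero_smul, zero_add] at hx0 ⊢
      obtain ⟨t, a, b, ha, h⟩ := ih (u := NN g σ u) (v := NN g σ v) (x := y + z) (by rw [pow_succ] at hu; exact hu)
        (by rw [pow_succ] at hv; exact hv) (Submodule.add_mem_sup hy hz) hx0
      refine ⟨t, a, b, ha, ?_⟩
      rw [h, pow_succ (NN g σ) k]
      rfl

/-- `B(N^j u, u) = 0` for all `j`: `cyc g u` is totally isotropic -/
theorem iso_of [FiniteDimensional F V] (hS : St B ε g) {u : V} (h : ∀ j, B ((NN g σ ^ j) u) u = 0) : Iso0 B (cyc g u) := by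
  have h1 : ∀ x ∈ cyc g u, B x u = 0 := by
    intro x hx
    rw [cyc_eq (σ := σ)] at hx
    induction hx using Submodule.span_induction with
    | mem y hy => obtain ⟨j, rfl⟩ := hy; exact h j
    | zero => rw [map_zero]; rfl
    | add x y _ _ hx hy => rw [map_add, LinearMap.add_apply, hx, hy, add_zero]
    | smul c x _ hx => rw [map_smul, LinearMap.smul_apply, hx, smul_zero]
  intro x hx y hy
  unfold cyc at hy
  induction hy using Submodule.span_induction with
  | mem y hy =>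
    obtain ⟨j, rfl⟩ := hy
    show B x ((g ^ j) u) = 0
    rw [B_zpow hS]
    exact h1 _ (zpow_cyc hx _)
  | zero => rw [map_zero]
  | add x y _ _ hx hy => rw [map_add, hx, hy, add_zero]
  | smul c x _ hx => rw [map_smul, hx, smul_zero]

/-- the form `β(x, y) = B(N^(k-1) x, y)` -/
theorem beta_symm (hS : St B ε g) (hσ : σ * σ = 1) {k : ℕ} {x y : V} (hx : (NN g σ ^ (k + 1)) x = 0) :
    B ((NN g σ ^ k) y) x = (-1) ^ k * ε * B ((NN g σ ^ k) x) y := by
  rw [adj_pow hS, pow_star_of_zero hσ hx, map_smul, smul_eq_mul, hS.symm y, mul_assoc]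

/-- one vector made isotropic -/
theorem exists_iso [FiniteDimensional F V] (h2 : (2 : F) ≠ 0) (hS : St B ε g) (hσ : σ * σ = 1) {k : ℕ} {u v : V}
    (hε : (-1) ^ k * ε = -1) (hu : (NN g σ ^ (k + 1)) u = 0) (hv : (NN g σ ^ (k + 1)) v = 0)
    (huv : B ((NN g σ ^ k) u) v ≠ 0) :
    ∃ u', (NN g σ ^ (k + 1)) u' = 0 ∧ B ((NN g σ ^ k) u') v ≠ 0 ∧ ∀ j, B ((NN g σ ^ j) u') u' = 0 := by
  have key : ∀ i ≤ k + 1, ∃ u', (NN g σ ^ (k + 1)) u' = 0 ∧ B ((NN g σ ^ k) u') v ≠ 0 ∧
      ∀ j, k + 1 ≤ j + i → B ((NN g σ ^ j) u') u' = 0 := by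
    intro i
    induction i with
    | zero =>
      intro _
      refine ⟨u, hu, huv, fun j hj => ?_⟩
      rw [NN_pow_zero_of_le (by omega : k + 1 ≤ j) hu, map_zero]
      rfl
    | succ m ih =>
      intro hm
      obtain ⟨w, hw, hwv, hiso⟩ := ih (by omega)
      obtain ⟨l, hl⟩ : ∃ l, l + m = k := ⟨k - m, by omega⟩
      by_cases hc : B ((NN g σ ^ l) w) w = 0
      · refine ⟨w, hw, hwv, fun j hj => ?_⟩
        rcases Nat.lt_or_ge l j with h | h
        · exact hiso j (by omega)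
        · have : j = l := by omega
          rw [this]; exact hc
      -- the sign
      have hsgn : (-1 : F) ^ l * ε = 1 := by
        obtain ⟨z, hz, hz'⟩ := pow_star (g := g) hσ l w
        have hBz : B w z = 0 := by
          have h1 : ∀ x ∈ cyc g ((NN g σ ^ (l + 1)) w), B x w = 0 := by
            intro x hx
            rw [cyc_eq (σ := σ)] at hx
            induction hx using Submodule.span_induction with
            | mem y hy =>
              obtain ⟨j, rfl⟩ := hy
              show B ((NN g σ ^ j) ((NN g σ ^ (l + 1)) w)) w = 0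
              rw [NN_pow_add]
              exact hiso _ (by omega)
            | zero => rw [map_zero]; rfl
            | add x y _ _ hx hy => rw [map_add, LinearMap.add_apply, hx, hy, add_zero]
            | smul c x _ hx => rw [map_smul, LinearMap.smul_apply, hx, smul_zero]
          rw [hS.symm w z, h1 z hz, mul_zero]
        have h3 : B ((NN g σ ^ l) w) w = (-1) ^ l * ε * B ((NN g σ ^ l) w) w := by
          conv_lhs => rw [adj_pow hS, hz', map_add, map_smul, smul_eq_mul, hBz, add_zero, hS.symm w, ← mul_assoc]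
        have h4 : ((-1) ^ l * ε - 1) * B ((NN g σ ^ l) w) w = 0 := by
          rw [sub_mul, ← h3, one_mul, sub_self]
        rcases mul_eq_zero.1 h4 with h | h
        · exact sub_eq_zero.1 h
        · exact absurd h hc
      have hm1 : (-1 : F) ^ m = -1 := by
        have h5 : (-1 : F) ^ m * ((-1) ^ l * ε) = -1 := by
          rw [← mul_assoc, ← pow_add, add_comm m l, hl, hε]
        rwa [hsgn, mul_one] at h5
      have hm0 : m ≠ 0 := by
        rintro rfl
        rw [pow_zero] at hm1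
        apply h2
        have : (2 : F) = 1 + 1 := by norm_num
        rw [this]
        nth_rewrite 1 [hm1]
        rw [neg_add_cancel]
      set b := B ((NN g σ ^ k) w) v with hb
      set c := B ((NN g σ ^ l) w) w with hcdef
      have hvz : ∀ j, k < j → (NN g σ ^ j) v = 0 := fun j hj => NN_pow_zero_of_le hj hv
      have hwz : ∀ j, k < j → (NN g σ ^ j) w = 0 := fun j hj => NN_pow_zero_of_le hj hw
      have hadd : ∀ j, (NN g σ ^ j) (w + (c / (2 * b)) • (NN g σ ^ m) v) =
          (NN g σ ^ j) w + (c / (2 * b)) • (NN g σ ^ (j + m)) v := by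
        intro j
        rw [map_add, map_smul, NN_pow_add]
      refine ⟨w + (c / (2 * b)) • (NN g σ ^ m) v, ?_, ?_, ?_⟩
      · rw [hadd, hwz _ (by omega), hvz _ (by omega), smul_zero, add_zero]
      · rw [hadd, hvz _ (by omega), smul_zero, add_zero]
        exact hwv
      · intro j hj
        have e1 : B ((NN g σ ^ j) w) ((NN g σ ^ m) v) = (-1) ^ m * B ((NN g σ ^ (j + m)) w) v := by
          rw [adj_pow' hS, pow_star_of_zero hσ (x := (NN g σ ^ j) w) (by rw [NN_pow_add]; exact hwz _ (by omega)), map_smul,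
            LinearMap.smul_apply, smul_eq_mul, NN_pow_add, add_comm m j]
        have e2 : B ((NN g σ ^ (j + m)) v) ((NN g σ ^ m) v) = 0 := by
          rw [adj_pow' hS, pow_star_of_zero hσ (x := (NN g σ ^ (j + m)) v) (by rw [NN_pow_add]; exact hvz _ (by omega)), map_smul,
            LinearMap.smul_apply, smul_eq_mul, NN_pow_add, hvz _ (by omega), map_zero, LinearMap.zero_apply, mul_zero]
        rw [hadd]
        simp only [map_add, map_smul, LinearMap.add_apply, LinearMap.smul_apply, e1, e2, hm1, smul_eq_mul, mul_zero, add_zero]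
        rcases Nat.lt_or_ge l j with h | h
        · rw [hiso j (by omega), hwz _ (by omega), hvz _ (by omega)]
          simp
        · have hjl : j = l := by omega
          subst hjl
          have e3 : B ((NN g σ ^ (j + m)) v) w = -b := by
            rw [hl, beta_symm hS hσ hw, hε, hb, neg_one_mul]
          rw [e3, hl, ← hcdef, ← hb]
          field_simp
          ring
  obtain ⟨u', h1, h3, h4⟩ := key (k + 1) le_rfl
  exact ⟨u', h1, h3, fun j => h4 j (by omega)⟩

theorem NN_star_pow (hσ : σ * σ = 1) (i : ℕ) (x : V) :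
    (NN g⁻¹ σ ^ i) x = (-σ) ^ i • (g⁻¹ ^ i) ((NN g σ ^ i) x) := by
  have h1 : ∀ y : V, NN g⁻¹ σ y = (-σ) • g⁻¹ (NN g σ y) := by
    intro y
    rw [NN_apply, NN_apply, map_sub, map_smul, ginv_g, smul_sub, smul_smul, neg_mul, hσ]
    module
  induction i generalizing x with
  | zero => simp
  | succ i ih =>
    rw [pow_succ, pow_succ (NN g σ)]
    show (NN g⁻¹ σ ^ i) (NN g⁻¹ σ x) = (-σ) ^ (i + 1) • (g⁻¹ ^ (i + 1)) ((NN g σ ^ i) (NN g σ x))
    have h3 : ∀ j : ℕ, ∀ y : V, (NN g σ ^ j) (g⁻¹ y) = g⁻¹ ((NN g σ ^ j) y) := by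
      intro j
      induction j with
      | zero => intro y; rfl
      | succ j ihj =>
        intro y
        rw [pow_succ']
        show NN g σ ((NN g σ ^ j) (g⁻¹ y)) = g⁻¹ (NN g σ ((NN g σ ^ j) y))
        rw [ihj, NN_ginv]
    rw [ih, h1, map_smul, map_smul, h3, smul_smul, ← pow_succ, pow_succ g⁻¹]
    rfl

theorem minus_one_ne (h2 : (2 : F) ≠ 0) : (-1 : F) ≠ 1 := by
  intro h
  apply h2
  have : (2 : F) = 1 + 1 := by norm_num
  rw [this]
  nth_rewrite 1 [← h]
  rw [neg_add_cancel]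

/-- **SR-G1c.** -/
theorem g1c [FiniteDimensional F V] (h2 : (2 : F) ≠ 0) (hS : St B ε g) (hσ : σ = 1 ∨ σ = -1)
    (hf : (X - C σ : F[X]) ∣ minpoly F (g : V →ₗ[F] V)) :
    (∃ (k : ℕ) (v : V), CPiece B g (X - C σ) k v ∧ ε = (-1) ^ (k + 1)) ∨
      (∃ (k : ℕ) (v w : V), PPiece B g (X - C σ) k v w ∧ ε = (-1) ^ k) := by
  classical
  have hσσ : σ * σ = 1 := by rcases hσ with rfl | rfl <;> norm_num
  have hirr : Irreducible (X - C σ : F[X]) := irreducible_X_sub_C σ
  -- an eigenvector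
  obtain ⟨x0, hx00, hx0⟩ : ∃ x : V, x ≠ 0 ∧ NN g σ x = 0 := by
    have h1 : (minpoly F (g : V →ₗ[F] V)).IsRoot σ := dvd_iff_isRoot.1 hf
    obtain ⟨x, hx⟩ := (Module.End.hasEigenvalue_of_isRoot h1).exists_hasEigenvector
    refine ⟨x, hx.2, ?_⟩
    rw [NN_apply, sub_eq_zero]
    exact hx.apply_eq_smul
  -- Fitting
  obtain ⟨n, hn1, hn⟩ : ∃ n, 1 ≤ n ∧ IsCompl (LinearMap.ker (NN g σ ^ n)) (LinearMap.range (NN g σ ^ n)) := by
    obtain ⟨m, hm⟩ := Filter.eventually_atTop.1 (LinearMap.eventually_isCompl_ker_pow_range_pow (NN g σ))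
    exact ⟨m + 1, by omega, hm _ (by omega)⟩
  have hex : ∃ k, ∀ x : V, (NN g σ ^ n) x = 0 → (NN g σ ^ k) x = 0 := ⟨n, fun _ h => h⟩
  obtain ⟨k, hk, hmin⟩ : ∃ k, (∀ x : V, (NN g σ ^ n) x = 0 → (NN g σ ^ k) x = 0) ∧
      ∀ j < k, ¬ ∀ x : V, (NN g σ ^ n) x = 0 → (NN g σ ^ j) x = 0 :=
    ⟨Nat.find hex, Nat.find_spec hex, fun j hj => Nat.find_min hex hj⟩
  have hk0 : k ≠ 0 := by
    rintro rfl
    refine hx00 (hk x0 ?_)
    obtain ⟨m, rfl⟩ := Nat.exists_eq_add_of_le hn1
    rw [add_comm, pow_succ]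
    show (NN g σ ^ m) (NN g σ x0) = 0
    rw [hx0, map_zero]
  obtain ⟨k, rfl⟩ := Nat.exists_eq_succ_of_ne_zero hk0
  have hkn : k + 1 ≤ n := by
    by_contra hlt
    push Not at hlt
    exact hmin n hlt fun _ h => h
  obtain ⟨u, hun, huk⟩ : ∃ u : V, (NN g σ ^ n) u = 0 ∧ (NN g σ ^ k) u ≠ 0 := by
    have := hmin k (Nat.lt_succ_self k)
    push Not at this
    exact this
  have hu : (NN g σ ^ (k + 1)) u = 0 := hk u hun
  -- a partner
  obtain ⟨v, hv, huv⟩ : ∃ v : V, (NN g σ ^ (k + 1)) v = 0 ∧ B ((NN g σ ^ k) u) v ≠ 0 := by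
    obtain ⟨y, hy⟩ : ∃ y, B ((NN g σ ^ k) u) y ≠ 0 := by
      by_contra hcon
      push Not at hcon
      exact huk (hS.nondeg _ hcon)
    have hytop : y ∈ LinearMap.ker (NN g σ ^ n) ⊔ LinearMap.range (NN g σ ^ n) := by
      rw [hn.sup_eq_top]; exact Submodule.mem_top
    obtain ⟨y0, hy0, y1, ⟨z, rfl⟩, rfl⟩ := Submodule.mem_sup.1 hytop
    refine ⟨y0, hk y0 (LinearMap.mem_ker.1 hy0), ?_⟩
    have h1 : B ((NN g σ ^ k) u) ((NN g σ ^ n) z) = 0 := by
      rw [adj_pow' hS, NN_star_pow hσσ, NN_pow_add, NN_pow_zero_of_le (by omega : k + 1 ≤ n + k) hu, map_zero, smul_zero,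
        map_zero, LinearMap.zero_apply]
    rwa [map_add, h1, add_zero] at hy
  have hne : ∀ {x y : V}, B ((NN g σ ^ k) x) y ≠ 0 → (NN g σ ^ k) x ≠ 0 := by
    intro x y h h0
    rw [h0, map_zero] at h
    exact h rfl
  have hann : ∀ {x : V}, (NN g σ ^ (k + 1)) x = 0 → (NN g σ ^ k) x ≠ 0 → Ann g x ((X - C σ) ^ (k + 1)) := by
    intro x h0 h1
    refine ann_of hirr (Nat.succ_pos k) ?_ ?_
    · rw [aeval_X_sub]; exact h0
    · rw [Nat.succ_sub_one, aeval_X_sub]; exact h1
  have hpm : (-1 : F) ^ k * ε = 1 ∨ (-1 : F) ^ k * ε = -1 := by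
    rcases neg_one_pow_eq_or F k with h | h <;> rcases hS.eps with h' | h' <;> rw [h, h'] <;> norm_num
  have hkk : (-1 : F) ^ k * (-1) ^ k = 1 := by rw [← mul_pow]; norm_num
  rcases hpm with hε | hε
  · -- cyclic piece
    left
    have hε' : ε = (-1) ^ (k + 1 + 1) := by
      have : (-1 : F) ^ k * ((-1) ^ k * ε) = (-1) ^ k := by rw [hε, mul_one]
      rw [← mul_assoc, hkk, one_mul] at this
      rw [this, pow_succ, pow_succ]
      ring
    obtain ⟨w, hw, hww⟩ : ∃ w : V, (NN g σ ^ (k + 1)) w = 0 ∧ B ((NN g σ ^ k) w) w ≠ 0 := by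
      by_cases h1 : B ((NN g σ ^ k) u) u = 0
      swap
      · exact ⟨u, hu, h1⟩
      by_cases h3 : B ((NN g σ ^ k) v) v = 0
      swap
      · exact ⟨v, hv, h3⟩
      refine ⟨u + v, by rw [map_add, hu, hv, add_zero], ?_⟩
      have h4 : B ((NN g σ ^ k) v) u = B ((NN g σ ^ k) u) v := by
        rw [beta_symm hS hσσ hu, hε, one_mul]
      simp only [map_add, LinearMap.add_apply]
      rw [h1, h3, h4, zero_add, add_zero, ← two_mul]
      exact mul_ne_zero h2 huv
    refine ⟨k + 1, w, ⟨hirr, Nat.succ_pos k, hann hw (hne hww), ?_⟩, hε'⟩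
    intro x hx hxr
    by_contra hx0
    obtain ⟨t, a, ha, h⟩ := socle_one k hw hx hx0
    have h1 : B ((NN g σ ^ t) x) w = 0 := by
      rw [adj_pow hS]
      exact hxr _ (star_pow_mem_cyc (mem_cyc w) t)
    rw [h, map_smul, LinearMap.smul_apply, smul_eq_mul] at h1
    exact (mul_ne_zero ha hww) h1
  · -- pair piece
    right
    have hε' : ε = (-1) ^ (k + 1) := by
      have : (-1 : F) ^ k * ((-1) ^ k * ε) = (-1) ^ k * (-1) := by rw [hε]
      rw [← mul_assoc, hkk, one_mul] at this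
      rw [this, pow_succ]
    have hanti : ∀ {x y : V}, (NN g σ ^ (k + 1)) x = 0 → B ((NN g σ ^ k) y) x = -B ((NN g σ ^ k) x) y := by
      intro x y hx
      rw [beta_symm hS hσσ hx, hε, neg_one_mul]
    have hself : ∀ {x : V}, (NN g σ ^ (k + 1)) x = 0 → B ((NN g σ ^ k) x) x = 0 := by
      intro x hx
      have h1 := hanti (y := x) hx
      have h3 : (2 : F) * B ((NN g σ ^ k) x) x = 0 := by rw [two_mul]; nth_rewrite 1 [h1]; rw [neg_add_cancel]
      rcases mul_eq_zero.1 h3 with h | h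
      · exact absurd h h2
      · exact h
    obtain ⟨u', hu', huv', hiu⟩ := exists_iso h2 hS hσσ hε hu hv huv
    have hvu' : B ((NN g σ ^ k) v) u' ≠ 0 := by
      rw [hanti hu', neg_ne_zero]
      exact huv'
    obtain ⟨v', hv', hvu'', hiv⟩ := exists_iso h2 hS hσσ hε hv hu' hvu'
    have huv'' : B ((NN g σ ^ k) u') v' ≠ 0 := by
      rw [hanti hv', neg_ne_zero]
      exact hvu''
    refine ⟨k + 1, u', v', ⟨hirr, Nat.succ_pos k, hann hu' (hne huv''), ?_, iso_of hS hiu, iso_of hS hiv, ?_⟩, hε'⟩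
    · refine ann_of (g := g⁻¹) hirr (Nat.succ_pos k) ?_ ?_
      · rw [aeval_X_sub, NN_star_pow hσσ, hv', map_zero, smul_zero]
      · rw [Nat.succ_sub_one, aeval_X_sub, NN_star_pow hσσ]
        refine smul_ne_zero (pow_ne_zero _ ?_) ?_
        · rw [neg_ne_zero]
          rintro rfl
          rw [mul_zero] at hσσ
          exact zero_ne_one hσσ
        · intro h
          exact hne hvu'' ((LinearEquiv.map_eq_zero_iff _).1 h)
    · intro x hx hxr
      by_contra hx0
      obtain ⟨t, a, b, hab, h⟩ := socle_two k hu' hv' hx hx0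
      have h1 : B ((NN g σ ^ t) x) v' = 0 := by
        rw [adj_pow hS]
        exact hxr _ (Submodule.mem_sup_right (star_pow_mem_cyc (mem_cyc v') t))
      have h3 : B ((NN g σ ^ t) x) u' = 0 := by
        rw [adj_pow hS]
        exact hxr _ (Submodule.mem_sup_left (star_pow_mem_cyc (mem_cyc u') t))
      rw [h, map_add, map_smul, map_smul, LinearMap.add_apply, LinearMap.smul_apply, LinearMap.smul_apply, smul_eq_mul,
        smul_eq_mul, hself hv', mul_zero, add_zero] at h1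
      rw [h, map_add, map_smul, map_smul, LinearMap.add_apply, LinearMap.smul_apply, LinearMap.smul_apply, smul_eq_mul,
        smul_eq_mul, hself hu', mul_zero, zero_add] at h3
      rcases hab with ha | hb
      · exact mul_ne_zero ha huv'' h1
      · exact mul_ne_zero hb hvu'' h3

end form

end Cfsg.Agent.H388.SR
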