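import Cfsg.Agent.H721.SR.Orth

/-!
# TEAM SR, task SR-G1c (helper388): tools for the generalised eigenspace of `σ = ±1`

* `NN g σ` : the linear map `g - σ`; `cyc_eq` : `cyc g v` is spanned by the `(g - σ)^j v` (finite dimension);
* `pow_star` : `(g⁻¹ - σ)^i x ∈ (-1)^i (g - σ)^i x + cyc g ((g - σ)^(i+1) x)`.
-/

set_option autoImplicit false
set_option linter.unusedSectionVars false

namespace Cfsg.Agent.H388.SR

open Polynomial Module Cfsg.Agent.H721.SR

variable {F V : Type*} [Field F] [AddCommGroup V] [Module F V]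

/-- `g - σ` -/
def NN (g : V ≃ₗ[F] V) (σ : F) : V →ₗ[F] V := (g : V →ₗ[F] V) - σ • LinearMap.id

variable {g : V ≃ₗ[F] V} {σ : F}

theorem NN_apply (x : V) : NN g σ x = g x - σ • x := rfl

theorem g_eq (x : V) : g x = σ • x + NN g σ x := by rw [NN_apply]; abel

theorem ginv_g (x : V) : g⁻¹ (g x) = x := g.symm_apply_apply x

theorem g_ginv (x : V) : g (g⁻¹ x) = x := g.apply_symm_apply x

theorem NN_g (x : V) : NN g σ (g x) = g (NN g σ x) := by
  rw [NN_apply, NN_apply, map_sub, map_smul]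

theorem NN_ginv (x : V) : NN g σ (g⁻¹ x) = g⁻¹ (NN g σ x) := by
  rw [NN_apply, NN_apply, map_sub, map_smul, g_ginv, ginv_g]

theorem NN_zpow (i : ℤ) (x : V) : NN g σ ((g ^ i) x) = (g ^ i) (NN g σ x) := by
  have h : g * g ^ i = g ^ i * g := by rw [← zpow_one_add, ← zpow_add_one, add_comm]
  rw [NN_apply, NN_apply, map_sub, map_smul, ← LinearEquiv.mul_apply, h, LinearEquiv.mul_apply]

theorem mem_cyc (v : V) : v ∈ cyc g v := Submodule.subset_span ⟨0, rfl⟩

theorem zpow_mem_cyc (v : V) (i : ℤ) : (g ^ i) v ∈ cyc g v := Submodule.subset_span ⟨i, rfl⟩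

theorem zpow_cyc {v x : V} (hx : x ∈ cyc g v) (i : ℤ) : (g ^ i) x ∈ cyc g v := by
  unfold cyc at hx
  induction hx using Submodule.span_induction with
  | mem y hy =>
    obtain ⟨j, rfl⟩ := hy
    show (g ^ i) ((g ^ j) v) ∈ _
    rw [← LinearEquiv.mul_apply, ← zpow_add]
    exact zpow_mem_cyc v _
  | zero => rw [map_zero]; exact zero_mem _
  | add x y _ _ hx hy => rw [map_add]; exact add_mem hx hy
  | smul a x _ hx => rw [map_smul]; exact Submodule.smul_mem _ _ hx

theorem g_cyc {v x : V} (hx : x ∈ cyc g v) : g x ∈ cyc g v := by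
  have := zpow_cyc hx 1
  rwa [zpow_one] at this

theorem ginv_cyc {v x : V} (hx : x ∈ cyc g v) : g⁻¹ x ∈ cyc g v := by
  have := zpow_cyc hx (-1)
  rwa [zpow_neg_one] at this

/-- `cyc g v` is the smallest subspace invariant under `g` and `g⁻¹` -/
theorem cyc_le {v : V} {U : Submodule F V} (hv : v ∈ U) (hg : ∀ x ∈ U, g x ∈ U) (hg' : ∀ x ∈ U, g⁻¹ x ∈ U) :
    cyc g v ≤ U := by
  unfold cyc
  rw [Submodule.span_le]
  rintro _ ⟨i, rfl⟩
  show (g ^ i) v ∈ U
  induction i using Int.induction_on with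
  | zero => exact hv
  | succ i ih =>
    have : g ^ ((i : ℤ) + 1) = g * g ^ (i : ℤ) := by rw [zpow_add_one]; exact (Commute.self_zpow g i).symm.eq
    rw [this, LinearEquiv.mul_apply]
    exact hg _ ih
  | pred i ih =>
    have : g ^ (-(i : ℤ) - 1) = g⁻¹ * g ^ (-(i : ℤ)) := by
      rw [zpow_sub_one]
      exact (Commute.zpow_self g _).inv_right.eq
    rw [this, LinearEquiv.mul_apply]
    exact hg' _ ih

theorem cyc_zero : cyc g (0 : V) = ⊥ := by
  rw [eq_bot_iff]
  refine cyc_le (zero_mem _) ?_ ?_ <;>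
  · intro x hx
    rw [Submodule.mem_bot] at hx ⊢
    rw [hx, map_zero]

theorem NN_cyc {v x : V} (hx : x ∈ cyc g v) : NN g σ x ∈ cyc g (NN g σ v) := by
  unfold cyc at hx
  induction hx using Submodule.span_induction with
  | mem y hy =>
    obtain ⟨j, rfl⟩ := hy
    show NN g σ ((g ^ j) v) ∈ _
    rw [NN_zpow]
    exact zpow_mem_cyc _ _
  | zero => rw [map_zero]; exact zero_mem _
  | add x y _ _ hx hy => rw [map_add]; exact add_mem hx hy
  | smul a x _ hx => rw [map_smul]; exact Submodule.smul_mem _ _ hx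

theorem NN_mem_cyc {v x : V} (hx : x ∈ cyc g v) : NN g σ x ∈ cyc g v :=
  sub_mem (g_cyc hx) (Submodule.smul_mem _ _ hx)

theorem NN_pow_mem_cyc {v x : V} (hx : x ∈ cyc g v) (i : ℕ) : (NN g σ ^ i) x ∈ cyc g v := by
  induction i with
  | zero => exact hx
  | succ i ih => rw [pow_succ']; exact NN_mem_cyc ih

/-- invariance under `g⁻¹` in finite dimension -/
theorem ginv_of_fin [FiniteDimensional F V] {U : Submodule F V} (hU : ∀ x ∈ U, g x ∈ U) : ∀ x ∈ U, g⁻¹ x ∈ U := by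
  have h1 : U.map (g : V →ₗ[F] V) = U := by
    refine Submodule.eq_of_le_of_finrank_eq ?_ ?_
    · rintro _ ⟨x, hx, rfl⟩
      exact hU x hx
    · exact LinearEquiv.finrank_map_eq g U
  intro x hx
  rw [← h1] at hx
  obtain ⟨y, hy, rfl⟩ := hx
  show g⁻¹ (g y) ∈ U
  rw [ginv_g]
  exact hy

/-- `cyc g v` is spanned by the `(g - σ)^j v`. -/
theorem cyc_eq [FiniteDimensional F V] (v : V) :
    cyc g v = Submodule.span F (Set.range fun j : ℕ => (NN g σ ^ j) v) := by
  refine le_antisymm ?_ ?_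
  · have hg : ∀ x ∈ Submodule.span F (Set.range fun j : ℕ => (NN g σ ^ j) v),
        g x ∈ Submodule.span F (Set.range fun j : ℕ => (NN g σ ^ j) v) := by
      intro x hx
      rw [g_eq (σ := σ)]
      refine add_mem (Submodule.smul_mem _ _ hx) ?_
      induction hx using Submodule.span_induction with
      | mem y hy =>
        obtain ⟨j, rfl⟩ := hy
        exact Submodule.subset_span ⟨j + 1, by
          show (NN g σ ^ (j + 1)) v = NN g σ ((NN g σ ^ j) v)
          rw [pow_succ']; rfl⟩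
      | zero => rw [map_zero]; exact zero_mem _
      | add x y _ _ hx hy => rw [map_add]; exact add_mem hx hy
      | smul a x _ hx => rw [map_smul]; exact Submodule.smul_mem _ _ hx
    exact cyc_le (Submodule.subset_span ⟨0, rfl⟩) hg (ginv_of_fin hg)
  · rw [Submodule.span_le]
    rintro _ ⟨j, rfl⟩
    exact NN_pow_mem_cyc (mem_cyc v) j

/-- the adjoint of `g - σ` -/
theorem star_eq (hσ : σ * σ = 1) (x : V) : NN g⁻¹ σ x = -NN g σ x + g⁻¹ (NN g σ (NN g σ x)) := by
  have h1 : ∀ y : V, g⁻¹ (NN g σ y) = y - σ • g⁻¹ y := by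
    intro y
    rw [NN_apply, map_sub, map_smul, ginv_g]
  rw [h1, h1, NN_apply (g := g⁻¹), smul_sub, smul_smul, hσ, one_smul]
  abel

theorem star_cyc (hσ : σ * σ = 1) {v x : V} (hx : x ∈ cyc g v) : NN g⁻¹ σ x ∈ cyc g (NN g σ v) := by
  rw [star_eq hσ]
  exact add_mem (neg_mem (NN_cyc hx)) (ginv_cyc (NN_mem_cyc (NN_cyc hx)))

theorem pow_star (hσ : σ * σ = 1) (i : ℕ) (x : V) :
    ∃ z ∈ cyc g ((NN g σ ^ (i + 1)) x), (NN g⁻¹ σ ^ i) x = (-1 : F) ^ i • (NN g σ ^ i) x + z := by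
  induction i with
  | zero => exact ⟨0, zero_mem _, by simp⟩
  | succ i ih =>
    obtain ⟨z, hz, h⟩ := ih
    have e1 : (NN g σ ^ (i + 1)) x = NN g σ ((NN g σ ^ i) x) := by rw [pow_succ']; rfl
    have e2 : (NN g σ ^ (i + 1 + 1)) x = NN g σ ((NN g σ ^ (i + 1)) x) := by rw [pow_succ']; rfl
    refine ⟨(-1 : F) ^ i • g⁻¹ (NN g σ ((NN g σ ^ (i + 1)) x)) + NN g⁻¹ σ z, ?_, ?_⟩
    · refine add_mem (Submodule.smul_mem _ _ (ginv_cyc ?_)) ?_
      · rw [e2]; exact mem_cyc _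
      · rw [e2]
        exact star_cyc hσ hz
    · rw [pow_succ']
      show NN g⁻¹ σ ((NN g⁻¹ σ ^ i) x) = _
      rw [h, map_add, map_smul, star_eq hσ, ← e1, smul_add, pow_succ (-1 : F)]
      simp only [mul_neg, mul_one, neg_smul, smul_neg]
      abel

theorem pow_star_of_zero (hσ : σ * σ = 1) {i : ℕ} {x : V} (hx : (NN g σ ^ (i + 1)) x = 0) :
    (NN g⁻¹ σ ^ i) x = (-1 : F) ^ i • (NN g σ ^ i) x := by
  obtain ⟨z, hz, h⟩ := pow_star (g := g) hσ i x
  rw [hx, cyc_zero, Submodule.mem_bot] at hz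
  rw [h, hz, add_zero]

end Cfsg.Agent.H388.SR
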